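import Groth.Prelude.Def_Pi1
import Groth.Agent.Lib.VB17.Setup
import Groth.Agent.Lib.VarDim.Normal

/-!
# Normality descends along morphisms with `O_X = f_* O`
-/

set_option autoImplicit false
set_option linter.style.haveILetI false
set_option backward.isDefEq.respectTransparency false
set_option backward.isDefEq.respectTransparency.types false

universe u

open CategoryTheory AlgebraicGeometry TopologicalSpace Opposite

namespace Groth.Agent.NormPush12

theorem preconnectedSpace_of_isDomain (W : Scheme.{u}) [IsDomain Γ(W, ⊤)] : PreconnectedSpace W := by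
  classical
  refine preconnectedSpace_iff_clopen.2 fun s hs => ?_
  let U : ULift.{u} Bool → W.Opens := fun b => if b.down then ⟨s, hs.isOpen⟩ else ⟨sᶜ, hs.compl.isOpen⟩
  let sf : ∀ b, Γ(W, U b) := fun b => if b.down then 1 else 0
  have hcover : (⊤ : W.Opens) ≤ iSup U := fun z _ => by
    rw [Opens.mem_iSup]
    by_cases hz : z ∈ s
    · exact ⟨⟨true⟩, hz⟩
    · exact ⟨⟨false⟩, hz⟩
  have hcompat : TopCat.Presheaf.IsCompatible W.sheaf.obj U sf := by
    intro b b'
    by_cases hbb : b = b'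
    · subst hbb; rfl
    · have hbot : U b ⊓ U b' = ⊥ := by
        ext z
        obtain ⟨b⟩ := b; obtain ⟨b'⟩ := b'
        cases b <;> cases b' <;> simp_all [U]
      haveI : Subsingleton Γ(W, U b ⊓ U b') := by rw [hbot]; infer_instance
      exact @Subsingleton.elim Γ(W, U b ⊓ U b') _ _ _
  obtain ⟨e', he, huniq⟩ := W.sheaf.existsUnique_gluing' U ⊤ (fun b => homOfLE le_top) hcover sf hcompat
  obtain ⟨e, rfl⟩ : ∃ e : Γ(W, ⊤), e = e' := ⟨e', rfl⟩
  have hr : ∀ b, (W.presheaf.map (homOfLE (le_top : U b ≤ ⊤)).op).hom e = sf b := he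
  have hee : e * e = e := huniq _ fun b => by
    show (W.presheaf.map (homOfLE (le_top : U b ≤ ⊤)).op).hom (e * e) = sf b
    rw [map_mul, hr]
    obtain ⟨b⟩ := b
    cases b <;> simp [sf]
  have key : ∀ b, U b ≠ ⊥ → (W.presheaf.map (homOfLE (le_top : U b ≤ ⊤)).op).hom e = sf b ∧
      Nontrivial Γ(W, U b) := fun b hb => by
    refine ⟨hr b, ?_⟩
    obtain ⟨z, hz⟩ : (U b : Set W).Nonempty := by
      rw [Set.nonempty_iff_ne_empty]; exact fun h => hb (Opens.ext h)
    exact RingHom.domain_nontrivial (W.presheaf.germ (U b) z hz).hom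
  rcases @mul_eq_zero Γ(W, ⊤) _ _ e (e - 1) |>.1 (show e * (e - 1) = 0 by rw [mul_sub, hee, mul_one, sub_self]) with h0 | h1
  · left
    by_contra hne
    obtain ⟨h, hnt⟩ := key ⟨true⟩ (fun hb => hne (congrArg (fun O : W.Opens => (O : Set W)) hb))
    rw [h0, map_zero] at h
    exact zero_ne_one h
  · right
    by_contra hne
    obtain ⟨h, hnt⟩ := key ⟨false⟩ (fun hb => hne (Set.compl_empty_iff.1
      (congrArg (fun O : W.Opens => (O : Set W)) hb)))
    rw [sub_eq_zero.1 h1, map_one] at h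
    exact one_ne_zero h

theorem isNormalScheme {X Xt : Scheme.{u}} [IsIntegral X] [IsLocallyNoetherian Xt] (f : Xt ⟶ X) [QuasiCompact f]
    (hfib : ∀ V : X.Opens, IsIso (f.app V)) (hXt : Pi1.IsNormalScheme Xt) : Pi1.IsNormalScheme X := by
  intro x
  refine ⟨inferInstance, ?_⟩
  obtain ⟨V, hV, hxV, -⟩ := exists_isAffineOpen_mem_and_subset (X := X) (x := x) (U := ⊤) trivial
  haveI : Nonempty V := ⟨⟨x, hxV⟩⟩
  haveI := hfib V
  let W : Scheme.{u} := (f ⁻¹ᵁ V : Xt.Opens)
  let e : Γ(X, V) ≅ Γ(W, ⊤) := asIso (f.app V) ≪≫ (f ⁻¹ᵁ V).topIso.symm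
  haveI : IsDomain Γ(W, ⊤) :=
    Function.Injective.isDomain e.inv.hom e.symm.commRingCatIsoToRingEquiv.injective
  haveI : Nontrivial Γ(W, ⊤) := inferInstance
  haveI : Nonempty W := by
    by_contra hn
    haveI := not_nonempty_iff.1 hn
    haveI : Subsingleton Γ(W, ⊤) := inferInstance
    exact false_of_nontrivial_of_subsingleton Γ(W, ⊤)
  haveI := preconnectedSpace_of_isDomain W
  haveI : ConnectedSpace W := { toNonempty := inferInstance }
  haveI : CompactSpace W := isCompact_iff_compactSpace.1 (f.isCompact_preimage hV.isCompact)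
  haveI : IsNoetherian W := {}
  have hst : ∀ w : W, IsDomain (W.presheaf.stalk w) ∧ IsIntegrallyClosed (W.presheaf.stalk w) := fun w => by
    obtain ⟨_, _⟩ := hXt w.1
    let E := ((f ⁻¹ᵁ V).stalkIso w).commRingCatIsoToRingEquiv
    haveI : IsDomain (W.presheaf.stalk w) := Function.Injective.isDomain E.toRingHom E.injective
    exact ⟨inferInstance, IsIntegrallyClosed.of_equiv E.symm⟩
  haveI : IsIntegral W := VB17.isIntegral_of_connected fun w => (hst w).1
  haveI : Nonempty (⊤ : W.Opens) := ⟨⟨Classical.arbitrary W, trivial⟩⟩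
  haveI := VarDim.isIntegrallyClosed_sections (fun w => (hst w).2) (⊤ : W.Opens)
  haveI : IsIntegrallyClosed Γ(X, V) := IsIntegrallyClosed.of_equiv e.symm.commRingCatIsoToRingEquiv
  letI : Algebra Γ(X, V) (X.presheaf.stalk x) := (X.presheaf.germ V x hxV).hom.toAlgebra
  haveI := hV.isLocalization_stalk ⟨x, hxV⟩
  exact isIntegrallyClosed_of_isLocalization (X.presheaf.stalk x)
    (hV.primeIdealOf ⟨x, hxV⟩).asIdeal.primeCompl (Ideal.primeCompl_le_nonZeroDivisors _)

end Groth.Agent.NormPush12
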